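import Groth.Agent.CechStair.Basic
import Groth.Agent.DerPlus.Acyclic
import Groth.Agent.DerExt.Coyoneda
import Groth.Prelude.Def_CechTot

/-!
Čech cochains preserve quasi-isomorphisms between complexes of acyclic sheaves.
-/

set_option autoImplicit false
set_option linter.style.haveILetI false
set_option backward.isDefEq.respectTransparency false
set_option backward.isDefEq.respectTransparency.types false

universe u

open CategoryTheory Category Limits Opposite TopologicalSpace Groth.Agent.SiteCoh

namespace Groth.Agent.CechStair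

variable {X : TopCat.{u}}

/-- Maps out of the free sheaf of an open. -/
noncomputable abbrev secF (V : Opens X) : CohTop.Ab X ⥤ AddCommGrpCat.{u} :=
  preadditiveCoyoneda.obj (op (CohCx.freeSheaf (Opens.grothendieckTopology X) V))

lemma isZero_rightDerived_secF (V : Opens X) (F : CohTop.Ab X) (q : ℕ)
    (h : Subsingleton (CohTop.HU F (q + 1) V)) : IsZero (((secF V).rightDerived (q + 1)).obj F) :=
  (@AddCommGrpCat.isZero_of_subsingleton (AddCommGrpCat.of _) h).of_iso
    ((DerExt.rightDerivedIso (CohCx.freeSheaf (Opens.grothendieckTopology X) V) (q + 1)).app F)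

/-- Sections of an acyclic bounded below complex with acyclic terms are exact. -/
theorem sections_exact [HasDerivedCategory.{u} (CohTop.Ab X)] (M : CochainComplex (CohTop.Ab X) ℤ) (a : ℤ)
    [M.IsStrictlyGE a] (hM : M.Acyclic) (V : Opens X)
    (hac : ∀ (i : ℤ) (q : ℕ), IsZero (((secF V).rightDerived (q + 1)).obj (M.X i))) {l m k : ℤ}
    (hl : l + 1 = m) (hk : m + 1 = k) (x : (M.X m).obj.obj (op V))
    (hx : (M.d m k).hom.app (op V) x = 0) :
    ∃ y : (M.X l).obj.obj (op V), (M.d l m).hom.app (op V) y = x := by
  subst hl hk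
  haveI : PreservesFiniteLimits (secF V) := inferInstance
  haveI : HasDerivedCategory.{u + 1} AddCommGrpCat.{u} := HasDerivedCategory.standard _
  have h := DerPlus.exact_map_of_acyclic (secF V) M a hM (fun i p hp => by
    obtain ⟨q, rfl⟩ : ∃ q, p = q + 1 := ⟨p - 1, by omega⟩
    exact hac i q) (l + 1)
  rw [HomologicalComplex.exactAt_iff' _ l (l + 1) (l + 1 + 1) (by simp) (by simp),
    ShortComplex.ab_exact_iff] at h
  obtain ⟨y, hy⟩ := h ((secEquiv V (M.X (l + 1))).symm x) (by
    refine (secEquiv V _).injective ?_
    refine (secEquiv_comp _ _).trans ?_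
    rw [AddEquiv.apply_symm_apply]
    exact hx.trans (map_zero _).symm)
  refine ⟨secEquiv V _ y, (secEquiv_comp y _).symm.trans ?_⟩
  exact (congrArg (secEquiv V (M.X (l + 1))) hy).trans (AddEquiv.apply_symm_apply _ _)

variable {ι : Type u} (U : ι → Opens X)

/-- The extended Čech cochain functor in a fixed degree. -/
noncomputable abbrev cochF (p : ℤ) : CohTop.Ab X ⥤ AddCommGrpCat.{u} :=
  sheafToPresheaf (Opens.grothendieckTopology X) AddCommGrpCat.{u} ⋙ cechComplexFunctor U ⋙
    ComplexShape.embeddingUpNat.extendFunctor AddCommGrpCat.{u} ⋙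
      HomologicalComplex.eval AddCommGrpCat.{u} (ComplexShape.up ℤ) p

lemma isZero_cochF (p : ℤ) (hp : p < 0) (F : CohTop.Ab X) : IsZero ((cochF U p).obj F) :=
  HomologicalComplex.isZero_extend_X _ _ _ fun i (h : (i : ℤ) = p) => by omega

/-- Cochains as elements of the extended complex. -/
noncomputable def extEquiv {p : ℕ} {p' : ℤ} (h : (p : ℤ) = p') (F : CohTop.Ab X) :
    (cochF U p').obj F ≃+ Cochain U F.obj p :=
  (HomologicalComplex.extendXIso _ ComplexShape.embeddingUpNat h).addCommGroupIsoToAddEquiv.trans
    (cochainEquiv U F.obj p)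

lemma extEquiv_map {p : ℕ} {p' : ℤ} (h : (p : ℤ) = p') {F G : CohTop.Ab X} (f : F ⟶ G)
    (x : (cochF U p').obj F) :
    extEquiv U h G ((cochF U p').map f x) = cmap f.hom (extEquiv U h F x) := by
  have key : (cochF U p').map f ≫ (HomologicalComplex.extendXIso _ ComplexShape.embeddingUpNat h).hom =
      (HomologicalComplex.extendXIso _ ComplexShape.embeddingUpNat h).hom ≫
        ((cechComplexFunctor U).map f.hom).f p := by
    change (HomologicalComplex.extendMap ((cechComplexFunctor U).map f.hom) _).f p' ≫ _ = _
    rw [HomologicalComplex.extendMap_f _ ComplexShape.embeddingUpNat h]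
    simp
  change cochainEquiv U G.obj p (((cochF U p').map f ≫
    (HomologicalComplex.extendXIso _ ComplexShape.embeddingUpNat h).hom) x) = _
  rw [key]
  funext a
  change cochainEquiv U G.obj p (((cechComplexFunctor U).map f.hom).f p
    ((HomologicalComplex.extendXIso ((cechComplexFunctor U).obj F.obj) ComplexShape.embeddingUpNat h).hom x)) a =
      f.hom.app _ (cochainEquiv U F.obj p
        ((HomologicalComplex.extendXIso ((cechComplexFunctor U).obj F.obj) ComplexShape.embeddingUpNat h).hom x) a)
  rw [cochainEquiv_apply, cochainEquiv_apply]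
  have : ((cechComplexFunctor U).map f.hom).f p ≫
      Pi.π (fun a : Fin (p + 1) → ι => G.obj.obj (op (tupleProd U a))) a =
      Pi.π (fun a : Fin (p + 1) → ι => F.obj.obj (op (tupleProd U a))) a ≫ f.hom.app _ :=
    Limits.Pi.map_π (fun a : Fin (p + 1) → ι => f.hom.app (op (tupleProd U a))) a
  exact ConcreteCategory.congr_hom this _

instance additive_cochF (p : ℤ) : (cochF U p).Additive where
  map_add {F G} f g := by
    rcases lt_or_ge p 0 with hp | hp
    · exact (isZero_cochF U p hp F).eq_of_src _ _
    · lift p to ℕ using hp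
      refine ConcreteCategory.hom_ext _ _ fun x => (extEquiv U (p := p) rfl G).injective ?_
      refine (extEquiv_map U rfl (f + g) x).trans ?_
      change _ = extEquiv U rfl G ((cochF U p).map f x + (cochF U p).map g x)
      rw [map_add, extEquiv_map, extEquiv_map]
      rfl

/-- Čech cochains of a quasi-isomorphism between bounded below complexes of acyclic sheaves. -/
theorem quasiIso_cochF [HasDerivedCategory.{u} (CohTop.Ab X)] {K L : CochainComplex (CohTop.Ab X) ℤ}
    (f : K ⟶ L) [QuasiIso f] (a : ℤ) [K.IsStrictlyGE a] [L.IsStrictlyGE a]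
    (hK : ∀ (p : ℕ) (c : Fin (p + 1) → ι) (i : ℤ) (q : ℕ),
      IsZero (((secF (tupleProd U c)).rightDerived (q + 1)).obj (K.X i)))
    (hL : ∀ i, Injective (L.X i)) (p : ℤ) :
    QuasiIso (((cochF U p).mapHomologicalComplex (ComplexShape.up ℤ)).map f) := by
  rw [DerPlus.quasiIso_iff_acyclic_mappingCone]
  intro m
  refine HomologicalComplex.ExactAt.of_iso ?_ (CochainComplex.mappingCone.mapHomologicalComplexIso f (cochF U p))
  rw [HomologicalComplex.exactAt_iff' _ (m - 1) m (m + 1) (by simp) (by simp), ShortComplex.ab_exact_iff]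
  intro x hx
  rcases lt_or_ge p 0 with hp | hp
  · refine ⟨0, ?_⟩
    haveI := AddCommGrpCat.subsingleton_of_isZero (isZero_cochF U p hp ((CochainComplex.mappingCone f).X m))
    exact Subsingleton.elim (α := (cochF U p).obj ((CochainComplex.mappingCone f).X m)) _ _
  · lift p to ℕ using hp
    haveI := CochainComplex.isStrictlyGE_mappingCone f a a (a - 1)
    have hac := (DerPlus.quasiIso_iff_acyclic_mappingCone f).1 inferInstance
    let M := CochainComplex.mappingCone f
    let z := extEquiv U (p := p) rfl (M.X m) x
    have hz : cmap (M.d m (m + 1)).hom z = 0 := by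
      rw [← extEquiv_map]
      exact (congrArg (extEquiv U rfl (M.X (m + 1))) hx).trans (map_zero _)
    have hterm : ∀ (c : Fin (p + 1) → ι) (i : ℤ) (q : ℕ),
        IsZero (((secF (tupleProd U c)).rightDerived (q + 1)).obj (M.X i)) := by
      intro c i q
      let R := (secF (tupleProd U c)).rightDerived (q + 1)
      haveI : R.Additive := inferInstance
      haveI := hL i
      rw [IsZero.iff_id_eq_zero, ← R.map_id, ← CochainComplex.mappingCone.id_X f i (i + 1) rfl,
        Functor.map_add, Functor.map_comp, Functor.map_comp, (hK p c (i + 1) q).eq_of_tgt (R.map _) 0,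
        ((secF (tupleProd U c)).isZero_rightDerived_obj_injective_succ q (L.X i)).eq_of_tgt (R.map _) 0,
        zero_comp, zero_comp, add_zero]
    choose y hy using fun c => sections_exact M (a - 1) hac (tupleProd U c) (hterm c)
      (l := m - 1) (m := m) (k := m + 1) (by omega) rfl (z c) (congr_fun hz c)
    refine ⟨(extEquiv U rfl (M.X (m - 1))).symm y, (extEquiv U (p := p) rfl (M.X m)).injective ?_⟩
    refine (extEquiv_map U rfl (M.d (m - 1) m) _).trans ?_
    rw [AddEquiv.apply_symm_apply]
    exact funext hy

end Groth.Agent.CechStair
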