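import Groth.Agent.SiteCoh.Cech
import Groth.Prelude.Def_CohTop
import Mathlib.Topology.Sheaves.SheafCondition.UniqueGluing

/-!
Čech cochains of a complex of abelian sheaves on a space and staircases in the double complex.
-/

set_option autoImplicit false
set_option linter.style.haveILetI false
set_option backward.isDefEq.respectTransparency false

universe u

open CategoryTheory Category Limits Opposite TopologicalSpace Groth.Agent.SiteCoh

namespace Groth.Agent.CechStair

variable {X : TopCat.{u}} {ι : Type u} (U : ι → Opens X) (I : CochainComplex (CohTop.Ab X) ℤ)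

/-- Čech cochains of degree `p` with values in the degree `m` term. -/
abbrev CC (p : ℕ) (m : ℤ) : Type u := Cochain U (I.X m).obj p

variable {U I}

/-- The differential of the complex on cochains. -/
noncomputable def dd {p : ℕ} (m m' : ℤ) : CC U I p m →+ CC U I p m' :=
  AddMonoidHom.mk' (cmap (I.d m m').hom) (cmap_add _)

/-- The Čech differential on cochains, additively. -/
noncomputable def dc {p : ℕ} (m : ℤ) : CC U I p m →+ CC U I (p + 1) m :=
  AddMonoidHom.mk' (cd U (I.X m).obj) fun x y => by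
    funext a
    simp only [cd_sum, Pi.add_apply, map_add, smul_add, Finset.sum_add_distrib]

lemma dd_dd {p : ℕ} (m m' m'' : ℤ) (x : CC U I p m) : dd m' m'' (dd m m' x) = 0 := by
  funext a
  exact ConcreteCategory.congr_hom (NatTrans.congr_app
    (congrArg (fun f : I.X m ⟶ I.X m'' => f.hom) (I.d_comp_d m m' m'')) _) (x a)

lemma dc_dc {p : ℕ} (m : ℤ) (x : CC U I p m) : dc m (dc m x) = 0 := cd_cd x

lemma dd_dc {p : ℕ} (m m' : ℤ) (x : CC U I p m) : dd m m' (dc m x) = dc m' (dd m m' x) :=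
  cmap_cd _ x

/-- Restriction of a global section to a tuple of opens. -/
noncomputable def aug (m : ℤ) : (I.X m).obj.obj (op (⊤ : Opens X)) →+ CC U I 0 m :=
  AddMonoidHom.mk' (fun s a => (I.X m).obj.map (homOfLE le_top).op s) fun _ _ =>
    funext fun _ => map_add _ _ _

lemma map_map (F : (Opens X)ᵒᵖ ⥤ AddCommGrpCat.{u}) {A B C : Opens X} (f : B ⟶ A) (g : C ⟶ B)
    (h : C ⟶ A) (s : F.obj (op A)) : F.map g.op (F.map f.op s) = F.map h.op s := by
  rw [← ConcreteCategory.comp_apply, ← Functor.map_comp, ← op_comp, Subsingleton.elim (g ≫ f) h]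

lemma dd_aug (m m' : ℤ) (s : (I.X m).obj.obj (op (⊤ : Opens X))) :
    dd m m' (aug (U := U) m s) = aug m' ((I.d m m').hom.app _ s) :=
  funext fun _ => NatTrans.naturality_apply (I.d m m').hom _ s

lemma dc_aug (m : ℤ) (s : (I.X m).obj.obj (op (⊤ : Opens X))) : dc m (aug (U := U) m s) = 0 := by
  funext a
  change cd U _ (aug m s) a = 0
  rw [cd_sum, Fin.sum_univ_two]
  simp only [aug, AddMonoidHom.mk'_apply, map_map _ _ _ (homOfLE le_top)]
  simp

/-- The projection from a tuple to one of its members. -/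
noncomputable def toMem {p : ℕ} (a : Fin (p + 1) → ι) (k : Fin (p + 1)) : tupleProd U a ⟶ U (a k) :=
  Pi.π (U ∘ a) k

lemma le_tupleProd {p : ℕ} (a : Fin (p + 1) → ι) (W : Opens X) (h : ∀ k, W ≤ U (a k)) :
    W ≤ tupleProd U a :=
  (Pi.lift fun k => homOfLE (h k) : W ⟶ tupleProd U a).le

lemma map_congr_tuple {p : ℕ} {m : ℤ} (x : CC U I p m) {a a' : Fin (p + 1) → ι} (e : a = a') {W : Opens X}
    (h : W ≤ tupleProd U a) (h' : W ≤ tupleProd U a') :
    (I.X m).obj.map (homOfLE h).op (x a) = (I.X m).obj.map (homOfLE h').op (x a') := by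
  subst e; rfl

lemma aug_injective (hcov : iSup U = ⊤) (m : ℤ) : Function.Injective (aug (U := U) (I := I) m) := by
  intro s t h
  refine TopCat.Sheaf.eq_of_locally_eq' (I.X m) U ⊤ (fun i => homOfLE le_top) (le_of_eq hcov.symm) s t
    fun i => ?_
  have hle : U i ≤ tupleProd U (fun _ : Fin 1 => i) := le_tupleProd _ _ fun _ => le_rfl
  have := congrArg ((I.X m).obj.map (homOfLE hle).op) (congr_fun h fun _ => i)
  simp only [aug, AddMonoidHom.mk'_apply] at this
  rw [map_map _ _ _ (homOfLE le_top), map_map _ _ _ (homOfLE le_top)] at this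
  exact this

lemma exists_aug (hcov : iSup U = ⊤) {m : ℤ} (u : CC U I 0 m) (hu : dc m u = 0) :
    ∃ t, aug m t = u := by
  have hle : ∀ i, U i ≤ tupleProd U (fun _ : Fin 1 => i) := fun i => le_tupleProd _ _ fun _ => le_rfl
  let sf : ∀ i, ToType ((I.X m).obj.obj (op (U i))) := fun i =>
    (I.X m).obj.map (homOfLE (hle i)).op (u fun _ => i)
  have hcomp : TopCat.Presheaf.IsCompatible (I.X m).obj U sf := by
    intro i j
    set a : Fin 2 → ι := ![i, j] with ha
    have hW : U i ⊓ U j ≤ tupleProd U a := le_tupleProd _ _ fun k => by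
      fin_cases k
      · exact inf_le_left
      · exact inf_le_right
    have h0 := congrArg ((I.X m).obj.map (homOfLE hW).op) (congr_fun hu a)
    change _ = (I.X m).obj.map (homOfLE hW).op 0 at h0
    change (I.X m).obj.map (homOfLE hW).op (cd U (I.X m).obj u a) = _ at h0
    rw [cd_sum, Fin.sum_univ_two, map_add, map_zero] at h0
    simp only [Fin.val_zero, Fin.val_one, pow_zero, pow_one, one_zsmul, neg_smul, map_neg] at h0
    have key : ∀ (k : Fin 2) (l : ι) (hl : a ∘ k.succAbove = fun _ => l) (hWl : U i ⊓ U j ≤ U l),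
        (I.X m).obj.map (homOfLE hW).op ((I.X m).obj.map (tupleDrop U a k).op (u (a ∘ k.succAbove))) =
          (I.X m).obj.map (homOfLE hWl).op (sf l) := by
      intro k l hl hWl
      rw [map_map _ _ _ (homOfLE (hW.trans (tupleDrop U a k).le))]
      refine Eq.trans ?_ (map_map _ _ _ (homOfLE (hWl.trans (hle l))) _).symm
      exact map_congr_tuple u hl _ _
    rw [key 0 j (funext fun x => by fin_cases x; rfl) inf_le_right,
      key 1 i (funext fun x => by fin_cases x; rfl) inf_le_left] at h0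
    exact (neg_add_eq_zero.mp ((add_comm _ _).trans h0))
  obtain ⟨t, ht, -⟩ := TopCat.Sheaf.existsUnique_gluing' (I.X m) U ⊤ (fun i => homOfLE le_top)
    (le_of_eq hcov.symm) sf hcomp
  refine ⟨t, funext fun a => ?_⟩
  have hle' : tupleProd U a ≤ U (a 0) := (toMem a 0).le
  have h1 := congrArg ((I.X m).obj.map (homOfLE hle').op) (ht (a 0))
  rw [map_map _ _ _ (homOfLE le_top)] at h1
  refine h1.trans ((map_map _ _ _ (homOfLE (hle'.trans (hle (a 0)))) _).trans ?_)
  have e : (fun _ : Fin 1 => a 0) = a := funext fun x => congrArg a (Subsingleton.elim (α := Fin 1) 0 x)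
  refine (map_congr_tuple u e _ le_rfl).trans ?_
  rw [show (homOfLE (le_refl (tupleProd U a))).op = 𝟙 _ from rfl, CategoryTheory.Functor.map_id]
  rfl

/-- Higher Čech exactness of the terms. -/
lemma exists_dc [∀ m, Injective (I.X m)] {p : ℕ} {m : ℤ} (x : CC U I (p + 1) m) (hx : dc m x = 0) :
    ∃ y, dc m y = x :=
  cechExact_sheaf_injective _ (I.X m) U p x hx

lemma cochain_eq_zero {p : ℕ} {m : ℤ} (h : IsZero (I.X m)) (x : CC U I p m) : x = 0 := by
  funext a
  have h0 : 𝟙 (I.X m) = 0 := h.eq_of_src _ _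
  exact ConcreteCategory.congr_hom (NatTrans.congr_app
    (congrArg (fun f : I.X m ⟶ I.X m => f.hom) h0) (op (tupleProd U a))) (x a)

/-- Staircases of length `p` under a section. -/
noncomputable def stair (n : ℤ) (p : ℕ) :
    AddSubgroup (((I.d n (n + 1)).hom.app (op (⊤ : Opens X))).hom.ker × ∀ k : ℕ, CC U I k (n - 1 - k)) where
  carrier := {w | (0 < p → dd (n - 1 - (0 : ℕ)) n (w.2 0) = aug n w.1.1) ∧
    ∀ k : ℕ, k + 1 < p → dd (n - 1 - (k + 1 : ℕ)) (n - 1 - k) (w.2 (k + 1)) = dc (n - 1 - k) (w.2 k)}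
  zero_mem' := ⟨fun _ => by simp, fun k _ => by simp⟩
  add_mem' := fun {v w} hv hw =>
    ⟨fun h => (map_add _ _ _).trans ((congrArg₂ (· + ·) (hv.1 h) (hw.1 h)).trans (map_add _ _ _).symm),
      fun k h => (map_add _ _ _).trans ((congrArg₂ (· + ·) (hv.2 k h) (hw.2 k h)).trans (map_add _ _ _).symm)⟩
  neg_mem' := fun {v} hv =>
    ⟨fun h => (map_neg _ _).trans ((congrArg Neg.neg (hv.1 h)).trans (map_neg _ _).symm),
      fun k h => (map_neg _ _).trans ((congrArg Neg.neg (hv.2 k h)).trans (map_neg _ _).symm)⟩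

lemma stair_mono {n : ℤ} {p q : ℕ} (h : p ≤ q) : stair (U := U) (I := I) n q ≤ stair n p :=
  fun _ hw => ⟨fun h0 => hw.1 (h0.trans_le h), fun k hk => hw.2 k (hk.trans_le h)⟩

/-- The last step of a staircase is closed. -/
lemma dd_dc_last {n : ℤ} {p : ℕ} {w : ((I.d n (n + 1)).hom.app (op (⊤ : Opens X))).hom.ker ×
    ∀ k : ℕ, CC U I k (n - 1 - k)} (hw : w ∈ stair n (p + 1)) :
    dd (n - 1 - p) (n - 1 - p + 1) (dc (n - 1 - p) (w.2 p)) = 0 := by
  rw [dd_dc]
  rcases p with - | j
  · have h := hw.1 Nat.one_pos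
    rw [show n - 1 - ((0 : ℕ) : ℤ) + 1 = n by simp, h, dc_aug]
  · have h := hw.2 j (by omega)
    rw [show n - 1 - ((j + 1 : ℕ) : ℤ) + 1 = n - 1 - j by push_cast; ring, h, dc_dc]

/-- Long staircases only exist over boundaries. -/
theorem exists_boundary_of_stair [∀ m, Injective (I.X m)] (hcov : iSup U = ⊤) (a : ℤ)
    (ha : ∀ m, m < a → IsZero (I.X m)) {n : ℤ} {N : ℕ} (hN : n - N < a) (hN0 : 0 < N)
    {w : ((I.d n (n + 1)).hom.app (op (⊤ : Opens X))).hom.ker × ∀ k : ℕ, CC U I k (n - 1 - k)}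
    (hw : w ∈ stair n N) :
    ∃ t : (I.X (n - 1)).obj.obj (op (⊤ : Opens X)), (I.d (n - 1) n).hom.app _ t = w.1.1 := by
  have main : ∀ j k : ℕ, k + j + 1 = N → ∃ v : CC U I k (n - 1 - k),
      dc _ v = 0 ∧ ∀ m', dd (n - 1 - k) m' v = dd (n - 1 - k) m' (w.2 k) := by
    intro j
    induction j with
    | zero =>
      intro k hk
      refine ⟨0, map_zero _, fun m' => ?_⟩
      rw [cochain_eq_zero (ha _ (by omega)) (w.2 k)]
    | succ j ih =>
      intro k hk
      obtain ⟨v, hv, hv'⟩ := ih (k + 1) (by omega)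
      obtain ⟨e, he⟩ := exists_dc v hv
      refine ⟨w.2 k - dd (n - 1 - (k + 1 : ℕ)) (n - 1 - k) e, ?_, fun m' => ?_⟩
      · rw [map_sub, ← dd_dc, he, hv', hw.2 k (by omega), sub_self]
      · rw [map_sub, dd_dd, sub_zero]
  obtain ⟨v, hv, hv'⟩ := main (N - 1) 0 (by omega)
  obtain ⟨t, ht⟩ := exists_aug hcov v hv
  have h1 : dd _ n (aug (U := U) _ t) = aug n w.1.1 := by
    rw [ht, hv' n]; exact hw.1 hN0
  rw [dd_aug] at h1
  have h2 := aug_injective hcov n h1
  have key : ∀ m, m = n - 1 → ∀ t : (I.X m).obj.obj (op (⊤ : Opens X)),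
      (I.d m n).hom.app _ t = w.1.1 → ∃ t' : (I.X (n - 1)).obj.obj (op (⊤ : Opens X)),
        (I.d (n - 1) n).hom.app _ t' = w.1.1 := by
    rintro m rfl t ht
    exact ⟨t, ht⟩
  exact key _ (by simp) t h2

end Groth.Agent.CechStair
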