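import Groth.Agent.CechStair.Basic
import Groth.Prelude.Def_CohB1
import Groth.Prelude.Def_HTor
import Mathlib.Algebra.Homology.ShortComplex.Ab

/-!
The staircase filtration and its subquotients of Čech cohomology of presheaves of classes.
-/

set_option autoImplicit false
set_option linter.style.haveILetI false
set_option backward.isDefEq.respectTransparency false

universe u

open CategoryTheory Category Limits Opposite TopologicalSpace Groth.Agent.SiteCoh

namespace Groth.Agent.CechStair

variable {X : TopCat.{u}} {ι : Type u} (U : ι → Opens X)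

section Hom

variable {U} (P : (Opens X)ᵒᵖ ⥤ AddCommGrpCat.{u})

/-- Čech cocycles, as functions on tuples. -/
noncomputable def cocycles (p : ℕ) : AddSubgroup (Cochain U P p) :=
  (AddMonoidHom.mk' (cd U P) fun x y => by
    funext a
    simp only [cd_sum, Pi.add_apply, map_add, smul_add, Finset.sum_add_distrib] :
      Cochain U P p →+ Cochain U P (p + 1)).ker

/-- The class of a cocycle, with the previous degree named. -/
lemma exists_classMap (i p : ℕ) (hi : (ComplexShape.up ℕ).prev p = i) :
    ∃ π : cocycles (U := U) P p →+ CohB1.cechHTop U P p,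
      ∀ x, π x = 0 → ∃ v, (cechCx U P).d i p v = (cochainEquiv U P p).symm x.1 := by
  let K := cechCx U P
  let S := K.sc' i p (p + 1)
  let e : CohB1.cechHTop U P p ≅ AddCommGrpCat.of (AddMonoidHom.ker S.g.hom ⧸ S.abToCycles.range) :=
    ShortComplex.homologyMapIso (K.isoSc' i p (p + 1) hi (by simp)) ≪≫ S.abHomologyIso
  let back : cocycles (U := U) P p →+ AddMonoidHom.ker S.g.hom :=
    AddMonoidHom.codRestrict ((cochainEquiv U P p).symm.toAddMonoidHom.comp (cocycles (U := U) P p).subtype)
      _ fun x => (d_eq_zero_iff U P p _).2 (by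
        change cd U P (cochainEquiv U P p ((cochainEquiv U P p).symm x.1)) = 0
        rw [AddEquiv.apply_symm_apply]; exact x.2)
  refine ⟨e.addCommGroupIsoToAddEquiv.symm.toAddMonoidHom.comp ((QuotientAddGroup.mk' _).comp back),
    fun x hx => ?_⟩
  have h1 : QuotientAddGroup.mk' S.abToCycles.range (back x) = 0 :=
    e.addCommGroupIsoToAddEquiv.symm.injective (hx.trans (map_zero _).symm)
  obtain ⟨v, hv⟩ := (QuotientAddGroup.eq_zero_iff _).mp h1
  exact ⟨v, congrArg Subtype.val hv⟩

lemma exists_classMap_zero :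
    ∃ π : cocycles (U := U) P 0 →+ CohB1.cechHTop U P 0, ∀ x, π x = 0 → x.1 = 0 := by
  obtain ⟨π, hπ⟩ := exists_classMap (U := U) P 0 0 (by simp)
  refine ⟨π, fun x hx => ?_⟩
  obtain ⟨v, hv⟩ := hπ x hx
  rw [(cechCx U P).shape 0 0 (by simp)] at hv
  exact (cochainEquiv U P 0).symm.injective (hv.symm.trans (map_zero _).symm)

lemma exists_classMap_succ (k : ℕ) :
    ∃ π : cocycles (U := U) P (k + 1) →+ CohB1.cechHTop U P (k + 1),
      ∀ x, π x = 0 → ∃ y : Cochain U P k, cd U P y = x.1 := by
  obtain ⟨π, hπ⟩ := exists_classMap (U := U) P k (k + 1) (by simp)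
  refine ⟨π, fun x hx => ?_⟩
  obtain ⟨v, hv⟩ := hπ x hx
  refine ⟨cochainEquiv U P k v, (cochainEquiv_d U P k v).symm.trans ?_⟩
  rw [hv, AddEquiv.apply_symm_apply]

end Hom

variable {U} (I : CochainComplex (CohTop.Ab X) ℤ)

/-- The presheaf of closed sections. -/
noncomputable def Zc (q : ℤ) : (Opens X)ᵒᵖ ⥤ AddCommGrpCat.{u} where
  obj V := AddCommGrpCat.of ((I.d q (q + 1)).hom.app V).hom.ker
  map {V W} f := AddCommGrpCat.ofHom
    (((I.X q).obj.map f).hom.comp ((I.d q (q + 1)).hom.app V).hom.ker.subtype |>.codRestrict _ fun s => by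
      have h : (I.d q (q + 1)).hom.app V s.1 = 0 := s.2
      change (I.d q (q + 1)).hom.app W ((I.X q).obj.map f s.1) = 0
      rw [NatTrans.naturality_apply, h, map_zero])
  map_id V := by
    ext s
    exact ConcreteCategory.congr_hom ((I.X q).obj.map_id V) _
  map_comp f g := by
    ext s
    exact ConcreteCategory.congr_hom ((I.X q).obj.map_comp f g) _

/-- Closed sections among all sections. -/
noncomputable def inclZ (q : ℤ) : Zc I q ⟶ (I.X q).obj where
  app V := AddCommGrpCat.ofHom ((I.d q (q + 1)).hom.app V).hom.ker.subtype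

variable {I}

lemma cmap_inclZ_injective (q : ℤ) (p : ℕ) :
    Function.Injective (cmap (Y := U) (inclZ I q) (n := p)) :=
  fun _ _ h => funext fun a => Subtype.ext (congr_fun h a)

/-- A closed cochain as a cochain of closed sections. -/
def lift {q : ℤ} {p : ℕ} (x : CC U I p q) (hx : dd q (q + 1) x = 0) : Cochain U (Zc I q) p :=
  fun a => ⟨x a, congr_fun hx a⟩

lemma cmap_lift {q : ℤ} {p : ℕ} (x : CC U I p q) (hx : dd q (q + 1) x = 0) :
    cmap (inclZ I q) (lift x hx) = x := rfl

lemma cd_lift {q : ℤ} {p : ℕ} (x : CC U I p q) (hx : dd q (q + 1) x = 0) (hc : dc q x = 0) :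
    cd U (Zc I q) (lift x hx) = 0 :=
  cmap_inclZ_injective q _ (by rw [cmap_cd, cmap_lift, cmap_zero]; exact hc)

/-- A presheaf receiving the classes of closed sections. -/
structure Classes (q : ℤ) (H : (Opens X)ᵒᵖ ⥤ AddCommGrpCat.{u}) where
  /-- the class map -/
  cl : Zc I q ⟶ H
  surjective : ∀ V, Function.Surjective (cl.app V)
  eq_zero_iff : ∀ (q' : ℤ), q' + 1 = q → ∀ (V : (Opens X)ᵒᵖ) (s : (Zc I q).obj V),
    cl.app V s = 0 ↔ ∃ t : (I.X q').obj.obj V, (I.d q' q).hom.app V t = s.1

lemma exists_dd_of_classes {H : (Opens X)ᵒᵖ ⥤ AddCommGrpCat.{u}} {q q' : ℤ} (hq : q' + 1 = q)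
    (c : Classes (I := I) q H) {p : ℕ} (x : Cochain U (Zc I q) p) (h : cmap c.cl x = 0) :
    ∃ t : CC U I p q', dd q' q t = cmap (inclZ I q) x := by
  choose t ht using fun a => (c.eq_zero_iff q' hq _ (x a)).1 (congr_fun h a)
  exact ⟨t, funext ht⟩

/-- A subquotient criterion. -/
theorem isSubquotient_of_pair {H W T : Type u} [AddCommGroup H] [AddCommGroup W] [AddCommGroup T]
    (G : ℕ → Submodule ℤ H) (p : ℕ) (α : W →ₗ[ℤ] ↥(G p)) (β : W →ₗ[ℤ] T)
    (hα : Function.Surjective α) (hker : ∀ w, β w = 0 → (α w : H) ∈ G (p + 1)) :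
    HTor.IsSubquotient ℤ (HTor.grDesc G p) T := by
  let D := Submodule.comap (G p).subtype (G (p + 1))
  let K := Submodule.comap α D
  refine ⟨Submodule.map β K, LinearMap.range β, LinearMap.map_le_range, ⟨?_⟩⟩
  let S₀ := Submodule.comap (LinearMap.range β).subtype (Submodule.map β K)
  let f : W →ₗ[ℤ] HTor.grDesc G p := D.mkQ.comp α
  let g : W →ₗ[ℤ] ↥(LinearMap.range β) ⧸ S₀ := S₀.mkQ.comp β.rangeRestrict
  have hf : Function.Surjective f := (Submodule.mkQ_surjective D).comp hα
  have hg : Function.Surjective g := (Submodule.mkQ_surjective S₀).comp β.surjective_rangeRestrict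
  have hk : LinearMap.ker f = LinearMap.ker g := by
    rw [LinearMap.ker_comp, LinearMap.ker_comp, Submodule.ker_mkQ, Submodule.ker_mkQ]
    ext w
    refine ⟨fun h => ⟨w, h, rfl⟩, fun ⟨v, hv, hvw⟩ => ?_⟩
    have h1 : β (w - v) = 0 := by rw [map_sub, hvw]; exact sub_self _
    have h2 : α (w - v) ∈ D := hker _ h1
    rw [map_sub] at h2
    change α w ∈ D
    simpa using D.add_mem h2 hv
  exact (f.quotKerEquivOfSurjective hf).symm.trans
    ((Submodule.quotEquivOfEq _ _ hk).trans (g.quotKerEquivOfSurjective hg))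

theorem exists_filtration [∀ m, Injective (I.X m)] (hcov : iSup U = ⊤) (a : ℤ)
    (ha : ∀ m, m < a → IsZero (I.X m)) (h : ℤ → ((Opens X)ᵒᵖ ⥤ AddCommGrpCat.{u}))
    (c : ∀ q, Classes (I := I) q (h q)) (n : ℤ) :
    ∃ (N : ℕ) (G : ℕ → Submodule ℤ ((h n).obj (op (⊤ : Opens X)))),
      Antitone G ∧ G 0 = ⊤ ∧ G N = ⊥ ∧
      (∀ x, x ∈ G 1 ↔ ∀ i, (h n).map (homOfLE le_top : U i ⟶ (⊤ : Opens X)).op x = 0) ∧
      ∀ (p : ℕ) (q : ℤ), q = n - p → HTor.IsSubquotient ℤ (HTor.grDesc G p) (CohB1.cechHTop U (h q) p) := by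
  let α : ∀ p, stair (U := U) (I := I) n p →+ (h n).obj (op (⊤ : Opens X)) := fun p =>
    ((c n).cl.app (op ⊤)).hom.comp ((AddMonoidHom.fst _ _).comp (stair n p).subtype)
  let G : ℕ → Submodule ℤ ((h n).obj (op (⊤ : Opens X))) := fun p =>
    AddSubgroup.toIntSubmodule (α p).range
  have hle : ∀ i, U i ≤ tupleProd U (fun _ : Fin 1 => i) := fun i => le_tupleProd _ _ fun _ => le_rfl
  refine ⟨(n - a).toNat + 1, G, fun p q hpq => ?_, ?_, ?_, fun x => ⟨?_, fun hx => ?_⟩, ?_⟩
  · rintro _ ⟨w, rfl⟩
    exact ⟨⟨w.1, stair_mono hpq w.2⟩, rfl⟩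
  · refine eq_top_iff.2 fun x _ => ?_
    obtain ⟨s, rfl⟩ := (c n).surjective (op ⊤) x
    exact ⟨⟨(s, 0), fun h => absurd h (lt_irrefl 0), fun k h => by omega⟩, rfl⟩
  · refine eq_bot_iff.2 ?_
    rintro _ ⟨w, rfl⟩
    refine (Submodule.mem_bot ℤ).2 (((c n).eq_zero_iff (n - 1) (by omega) (op ⊤) w.1.1).2 ?_)
    exact exists_boundary_of_stair hcov a ha (by omega) (Nat.succ_pos _) w.2
  · rintro ⟨w, rfl⟩ i
    have h1 := congr_fun (w.2.1 Nat.one_pos) fun _ => i
    change (h n).map _ ((c n).cl.app _ w.1.1) = 0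
    rw [← NatTrans.naturality_apply, (c n).eq_zero_iff (n - 1 - (0 : ℕ)) (by simp)]
    refine ⟨(I.X _).obj.map (homOfLE (hle i)).op (w.1.2 0 fun _ => i), ?_⟩
    rw [NatTrans.naturality_apply]
    refine (congrArg ((I.X n).obj.map (homOfLE (hle i)).op) h1).trans ?_
    exact map_map _ _ _ _ _
  · obtain ⟨s, rfl⟩ := (c n).surjective (op ⊤) x
    let z : Cochain U (Zc I n) 0 := fun b => (Zc I n).map (homOfLE le_top).op s
    have hz : cmap (c n).cl z = 0 := funext fun b => by
      change (c n).cl.app _ ((Zc I n).map _ s) = 0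
      rw [NatTrans.naturality_apply]
      have h1 := congrArg ((h n).map (toMem (U := U) b 0).op) (hx (b 0))
      rw [map_zero, map_map _ _ _ (homOfLE le_top)] at h1
      exact h1
    obtain ⟨t, ht⟩ := exists_dd_of_classes (q' := n - 1 - (0 : ℕ)) (by simp) (c n) z hz
    let y : ∀ k : ℕ, CC U I k (n - 1 - k) := fun k => match k with
      | 0 => t
      | _ + 1 => 0
    exact ⟨⟨(s, y), fun _ => ht, fun k h => by omega⟩, rfl⟩
  · intro p
    rcases p with - | k
    · intro q hq
      obtain rfl : q = n := by simpa using hq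
      obtain ⟨π, hπ⟩ := exists_classMap_zero (U := U) (h q)
      let z : stair (U := U) (I := I) q 0 →+ cocycles (U := U) (h q) 0 :=
        AddMonoidHom.mk' (fun w => ⟨cmap (c q).cl (fun b => (Zc I q).map (homOfLE le_top).op w.1.1), by
          change cd U (h q) (cmap _ _) = 0
          rw [← cmap_cd]
          have h0 : cd U (Zc I q) (fun b => (Zc I q).map (homOfLE le_top).op w.1.1) = 0 :=
            cmap_inclZ_injective q _ (by
              rw [cmap_cd, cmap_zero]
              exact dc_aug q w.1.1.1)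
          rw [h0, cmap_zero]⟩) fun v w => Subtype.ext (funext fun b =>
            (congrArg ((c q).cl.app _) (map_add _ _ _)).trans (map_add _ _ _))
      refine isSubquotient_of_pair G 0 ((α 0).rangeRestrict.toIntLinearMap) (π.comp z).toIntLinearMap
        (α 0).rangeRestrict_surjective fun w hw => ?_
      have hw' := hπ (z w) hw
      obtain ⟨t, ht⟩ := exists_dd_of_classes (q' := q - 1 - (0 : ℕ)) (by simp) (c q) _ hw'
      let y : ∀ k : ℕ, CC U I k (q - 1 - k) := fun k => match k with
        | 0 => t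
        | _ + 1 => 0
      exact ⟨⟨(w.1.1, y), fun _ => ht, fun j h => by omega⟩, rfl⟩
    · intro q hq
      obtain rfl : q = n - 1 - k := by push_cast at hq; omega
      obtain ⟨π, hπ⟩ := exists_classMap_succ (U := U) (h (n - 1 - k)) k
      let z : stair (U := U) (I := I) n (k + 1) →+ cocycles (U := U) (h (n - 1 - k)) (k + 1) :=
        AddMonoidHom.mk' (fun w => ⟨cmap (c _).cl (lift (dc _ (w.1.2 k)) (dd_dc_last w.2)), by
          change cd U _ (cmap _ _) = 0
          rw [← cmap_cd, cd_lift _ _ (dc_dc _ _), cmap_zero]⟩) fun v w => Subtype.ext (funext fun b =>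
            (congrArg ((c _).cl.app _) (Subtype.ext (congr_fun (map_add (dc _) (v.1.2 k) (w.1.2 k)) b))).trans
              (map_add _ _ _))
      refine isSubquotient_of_pair G (k + 1) ((α (k + 1)).rangeRestrict.toIntLinearMap)
        (π.comp z).toIntLinearMap (α (k + 1)).rangeRestrict_surjective fun w hw => ?_
      obtain ⟨η, hη⟩ := hπ (z w) hw
      choose e he using fun b => (c _).surjective _ (η b)
      have hz0 : cmap (c _).cl (lift (dc _ (w.1.2 k)) (dd_dc_last w.2) - cd U (Zc I _) e) = 0 := by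
        rw [cmap_sub, cmap_cd, show cmap (c _).cl e = η from funext he, hη]
        exact sub_self _
      obtain ⟨t, ht⟩ := exists_dd_of_classes (q' := n - 1 - (k + 1 : ℕ)) (by push_cast; ring) (c _) _ hz0
      rw [cmap_sub, cmap_cd, cmap_lift] at ht
      let e' : CC U I k (n - 1 - k) := cmap (inclZ I _) e
      let y := Function.update (Function.update w.1.2 k (w.1.2 k - e')) (k + 1) t
      have hk1 : y (k + 1) = t := Function.update_self _ _ _
      have hk0 : y k = w.1.2 k - e' :=
        (Function.update_of_ne (by omega) _ _).trans (Function.update_self _ _ _)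
      have hlt : ∀ j, j < k → y j = w.1.2 j := fun j hj =>
        (Function.update_of_ne (by omega) _ _).trans (Function.update_of_ne (by omega) _ _)
      have he' : ∀ m', n - 1 - (k : ℤ) + 1 = m' → dd (n - 1 - k) m' e' = 0 := by
        rintro m' rfl
        exact funext fun b => (e b).2
      refine ⟨⟨(w.1.1, y), fun _ => ?_, fun j hj => ?_⟩, rfl⟩
      · rcases k.eq_zero_or_pos with rfl | hpos
        · change dd _ n (y 0) = _
          rw [hk0, map_sub, he' n (by simp), sub_zero]
          exact w.2.1 (Nat.succ_pos _)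
        · change dd _ n (y 0) = _
          rw [hlt 0 hpos]
          exact w.2.1 (Nat.succ_pos _)
      · change dd _ _ (y (j + 1)) = dc _ (y j)
        rcases lt_trichotomy (j + 1) k with hjk | hjk | hjk
        · rw [hlt _ hjk, hlt _ (by omega)]
          exact w.2.2 j (by omega)
        · subst hjk
          rw [hk0, hlt j (by omega), map_sub, he' _ (by push_cast; ring), sub_zero]
          exact w.2.2 j (by omega)
        · obtain rfl : j = k := by omega
          rw [hk1, hk0, map_sub]
          exact ht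

end Groth.Agent.CechStair
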