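import Groth.Agent.CechStair.Filtration
import Groth.Agent.HDU.Compare
import Mathlib.Algebra.Homology.Factorizations.CM5a
import Mathlib.Algebra.Homology.HomotopyCategory.KInjective

/-!
Classes of closed sections of a bounded below injective resolution in the hypercohomology presheaves.
-/

set_option autoImplicit false
set_option linter.style.haveILetI false
set_option backward.isDefEq.respectTransparency false
set_option backward.isDefEq.respectTransparency.types false

universe u

open CategoryTheory Category Limits Opposite TopologicalSpace DerivedCategory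

namespace Groth.Agent.CechStair

variable {X : TopCat.{u}} [HasDerivedCategory.{u} (CohTop.Ab X)]

theorem exists_classes (K : CochainComplex (CohTop.Ab X) ℤ) (a : ℤ) (ha : ∀ i : ℤ, i < a → IsZero (K.X i)) :
    ∃ I : CochainComplex (CohTop.Ab X) ℤ, (∀ m, Injective (I.X m)) ∧ (∀ m, m < a → IsZero (I.X m)) ∧
      Nonempty (∀ q, Classes (I := I) q (CohCx.HDUPresheaf (DerivedCategory.Q.obj K) q)) := by
  have : K.IsStrictlyGE a := (K.isStrictlyGE_iff a).2 fun i hi => ha i hi
  obtain ⟨I, f, hf, hI, hIa⟩ := CochainComplex.Plus.modelCategoryQuillen.exists_quasiIso_injective K a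
  have : I.IsKInjective := CochainComplex.isKInjective_of_injective I a
  refine ⟨I, hI, fun m hm => I.isZero_of_isStrictlyGE a m hm, ⟨fun q => ?_⟩⟩
  let e : CohCx.HDUPresheaf (DerivedCategory.Q.obj I) q ≅ CohCx.HDUPresheaf (DerivedCategory.Q.obj K) q :=
    Functor.isoWhiskerLeft _ (preadditiveYoneda.mapIso
      ((shiftFunctor (DerivedCategory (CohTop.Ab X)) q).mapIso (asIso (DerivedCategory.Q.map f)).symm))
  let cl : Zc I q ⟶ CohCx.HDUPresheaf (DerivedCategory.Q.obj I) q :=
    { app := fun V => AddCommGrpCat.ofHom (HDU.clsHom q V.unop)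
      naturality := fun {V W} g => by
        ext s
        exact HDU.cls_res q g.unop s.1 s.2 ((Zc I q).map g s).2 }
  refine
    { cl := cl ≫ e.hom
      surjective := fun V x => ?_
      eq_zero_iff := ?_ }
  · obtain ⟨s, hs⟩ := HDU.clsHom_surjective (I := I) q V.unop ((e.app V).addCommGroupIsoToAddEquiv.symm x)
    refine ⟨s, ?_⟩
    change (e.app V).addCommGroupIsoToAddEquiv (HDU.clsHom q V.unop s) = x
    rw [hs, AddEquiv.apply_symm_apply]
  · rintro q' hq' V s
    obtain rfl : q' = q - 1 := by omega
    refine (Iff.trans ?_ (HDU.cls_eq_zero_iff q V.unop s.1 s.2))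
    change (e.app V).addCommGroupIsoToAddEquiv (HDU.clsHom q V.unop s) = 0 ↔ _
    rw [AddEquiv.map_eq_zero_iff]
    rfl

end Groth.Agent.CechStair
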