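import Groth.Agent.CechStair.Acyclic
import Groth.Agent.TotalQis.Main
import Mathlib.Algebra.Homology.TotalComplexSymmetry
import Mathlib.Algebra.Homology.Factorizations.CM5a

/-!
Čech hypercohomology of complexes of sheaves: comparison of total complexes.
-/

set_option autoImplicit false
set_option linter.style.haveILetI false
set_option backward.isDefEq.respectTransparency false
set_option backward.isDefEq.respectTransparency.types false

universe u

open CategoryTheory Category Limits Opposite TopologicalSpace Groth.Agent.SiteCoh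

namespace Groth.Agent.CechStair

/-- A map of bicomplexes which is a quasi-isomorphism in every inner degree is one. -/
theorem quasiIso_of_eval {A : Type (u + 1)} [Category.{u} A] [Abelian A]
    {K L : HomologicalComplex₂ A (ComplexShape.up ℤ) (ComplexShape.up ℤ)} (φ : K ⟶ L)
    (h : ∀ p, QuasiIso (((HomologicalComplex.eval A (ComplexShape.up ℤ) p).mapHomologicalComplex
      (ComplexShape.up ℤ)).map φ)) : QuasiIso φ := by
  rw [TotalQis.quasiIso_iff_acyclic_mappingCone]
  intro n
  rw [HomologicalComplex.exactAt_iff' _ (n - 1) n (n + 1) (by simp) (by simp)]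
  refine HomologicalComplex.exact_of_degreewise_exact _ fun p => ?_
  have h1 := ((TotalQis.quasiIso_iff_acyclic_mappingCone _).1 (h p) n).of_iso
    (CochainComplex.mappingCone.mapHomologicalComplexIso φ
      (HomologicalComplex.eval A (ComplexShape.up ℤ) p)).symm
  rw [HomologicalComplex.exactAt_iff' _ (n - 1) n (n + 1) (by simp) (by simp)] at h1
  exact h1

section Single

variable (G : CochainComplex AddCommGrpCat.{u} ℤ)

/-- A complex as a bicomplex in the outer degree zero. -/
noncomputable abbrev col : HomologicalComplex₂ AddCommGrpCat.{u} (ComplexShape.up ℤ) (ComplexShape.up ℤ) :=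
  (HomologicalComplex.single (CochainComplex AddCommGrpCat.{u} ℤ) (ComplexShape.up ℤ) 0).obj G

lemma isZero_col (p q : ℤ) (hp : p ≠ 0) : IsZero (((col G).X p).X q) :=
  Functor.map_isZero (HomologicalComplex.eval _ _ q) (HomologicalComplex.isZero_single_obj_X _ _ _ _ hp)

lemma col_bound (b : ℤ) (hG : ∀ q, q < b → IsZero (G.X q)) (p q : ℤ) (h : p < 0 ∨ q < b) :
    IsZero (((col G).X p).X q) := by
  by_cases hp : p = 0
  · subst hp
    exact (hG q (by omega)).of_iso
      ((HomologicalComplex.eval _ _ q).mapIso (HomologicalComplex.singleObjXSelf (ComplexShape.up ℤ) 0 G))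
  · exact isZero_col G p q hp

/-- The total complex of a bicomplex concentrated in one column. -/
noncomputable def totalColIso (b : ℤ) (hG : ∀ q, q < b → IsZero (G.X q)) :
    (col G).total (ComplexShape.up ℤ) ≅ G :=
  HomologicalComplex.Hom.isoOfComponents
    (fun n =>
      { hom := TotalQis.pr (col G) n 0 n (zero_add n) ≫
          (HomologicalComplex.singleObjXSelf (ComplexShape.up ℤ) 0 G).hom.f n
        inv := (HomologicalComplex.singleObjXSelf (ComplexShape.up ℤ) 0 G).inv.f n ≫
          (col G).ιTotal (ComplexShape.up ℤ) 0 n n (by simp)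
        hom_inv_id := by
          refine TotalQis.ext_pr 0 b (col_bound G b hG) fun p q hpq => ?_
          by_cases hp : p = 0
          · subst hp
            obtain rfl : q = n := by omega
            simp only [Category.assoc, TotalQis.ι_pr, Category.comp_id, ← HomologicalComplex.comp_f,
              Iso.hom_inv_id, HomologicalComplex.id_f, Category.id_comp]
          · exact (isZero_col G p q hp).eq_of_tgt _ _
        inv_hom_id := by
          simp only [Category.assoc, TotalQis.ι_pr_assoc, ← HomologicalComplex.comp_f, Iso.inv_hom_id]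
          rfl })
    (fun i j hij => by
      obtain rfl : i + 1 = j := hij
      simp only [Category.assoc]
      rw [reassoc_of% (TotalQis.d_pr (K := col G) i (-1) 0 i (i + 1) (by norm_num) rfl (zero_add _)),
        (isZero_col G (-1) (i + 1) (by norm_num)).eq_of_tgt (TotalQis.pr (col G) i (-1) (i + 1) (by omega)) 0]
      simp only [zero_comp, zero_add, Int.negOnePow_zero, one_smul, Category.assoc]
      rw [← (HomologicalComplex.singleObjXSelf (ComplexShape.up ℤ) 0 G).hom.comm i (i + 1)])

end Single

variable {X : TopCat.{u}} {ι : Type u} (U : ι → Opens X)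

/-- The Čech bicomplex of a complex of sheaves. -/
noncomputable abbrev bicx (K : CochainComplex (CohTop.Ab X) ℤ) :
    HomologicalComplex₂ AddCommGrpCat.{u} (ComplexShape.up ℤ) (ComplexShape.up ℤ) :=
  CechTot.cech₂ U ((CechTot.presheafCx X).obj K)

lemma bicx_bound (K : CochainComplex (CohTop.Ab X) ℤ) (a : ℤ) (ha : ∀ i, i < a → IsZero (K.X i))
    (q p : ℤ) (h : q < a ∨ p < 0) : IsZero (((bicx U K).X q).X p) := by
  change IsZero ((cochF U p).obj (K.X q))
  rcases h with h | h
  · exact (cochF U p).map_isZero (ha q h)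
  · exact isZero_cochF U p h _

theorem quasiIso_tot_map [HasDerivedCategory.{u} (CohTop.Ab X)] {K L : CochainComplex (CohTop.Ab X) ℤ}
    (f : K ⟶ L) [QuasiIso f] (a : ℤ) [K.IsStrictlyGE a] [L.IsStrictlyGE a]
    (hK : ∀ (p : ℕ) (c : Fin (p + 1) → ι) (i : ℤ) (q : ℕ),
      IsZero (((secF (tupleProd U c)).rightDerived (q + 1)).obj (K.X i)))
    (hL : ∀ i, Injective (L.X i)) :
    QuasiIso (HomologicalComplex₂.total.map
      (((cechComplexFunctor (A := AddCommGrpCat.{u}) U ⋙
        ComplexShape.embeddingUpNat.extendFunctor AddCommGrpCat.{u}).mapHomologicalComplex (ComplexShape.up ℤ)).map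
          ((CechTot.presheafCx X).map f) : bicx U K ⟶ bicx U L) (ComplexShape.up ℤ)) := by
  let φ := (((cechComplexFunctor (A := AddCommGrpCat.{u}) U ⋙
        ComplexShape.embeddingUpNat.extendFunctor AddCommGrpCat.{u}).mapHomologicalComplex (ComplexShape.up ℤ)).map
          ((CechTot.presheafCx X).map f) : bicx U K ⟶ bicx U L)
  haveI : QuasiIso φ := quasiIso_of_eval φ fun p => quasiIso_cochF U f a hK hL p
  exact TotalQis.quasiIso_total_map φ a 0 (bicx_bound U K a fun i hi => K.isZero_of_isStrictlyGE a i hi)
    (bicx_bound U L a fun i hi => L.isZero_of_isStrictlyGE a i hi)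

section Aug

variable {U} (I : CochainComplex (CohTop.Ab X) ℤ)

/-- Global sections. -/
noncomputable abbrev glob : CochainComplex AddCommGrpCat.{u} ℤ :=
  ((secF (⊤ : Opens X)).mapHomologicalComplex (ComplexShape.up ℤ)).obj I

/-- The augmentation in one degree. -/
noncomputable def augHom (q : ℤ) : (glob I).X q ⟶ ((bicx U I).X q).X 0 :=
  AddCommGrpCat.ofHom (((extEquiv U (p := 0) (p' := 0) rfl (I.X q)).symm.toAddMonoidHom.comp
    (aug (U := U) (I := I) q)).comp (secEquiv (⊤ : Opens X) (I.X q)).toAddMonoidHom)

lemma extEquiv_augHom (q : ℤ) (s : (glob I).X q) :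
    extEquiv U (p := 0) (p' := 0) rfl (I.X q) (augHom (U := U) I q s) =
      aug q (secEquiv (⊤ : Opens X) (I.X q) s) :=
  AddEquiv.apply_symm_apply _ _

lemma extEquiv_d {p : ℕ} {p' p'' : ℤ} (h : (p : ℤ) = p') (h' : ((p + 1 : ℕ) : ℤ) = p'') (F : CohTop.Ab X)
    (x : (cochF U p').obj F) :
    extEquiv U h' F ((((cechComplexFunctor U).obj F.obj).extend ComplexShape.embeddingUpNat).d p' p'' x) =
      cd U F.obj (extEquiv U h F x) := by
  rw [HomologicalComplex.extend_d_eq _ ComplexShape.embeddingUpNat h h']
  change cochainEquiv U F.obj (p + 1)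
    ((HomologicalComplex.extendXIso ((cechComplexFunctor U).obj F.obj) ComplexShape.embeddingUpNat h').hom _) = _
  simp only [ConcreteCategory.comp_apply, Iso.inv_hom_id_apply]
  exact cochainEquiv_d U F.obj p _

lemma augHom_d (q : ℤ) : augHom (U := U) I q ≫ ((bicx U I).X q).d 0 1 = 0 := by
  refine ConcreteCategory.hom_ext _ _ fun s => (extEquiv U (p := 1) (p' := 1) rfl (I.X q)).injective ?_
  refine (extEquiv_d (U := U) (p := 0) (p' := 0) (p'' := 1) rfl rfl (I.X q) _).trans ?_
  refine (congrArg (cd U (I.X q).obj) (extEquiv_augHom I q s)).trans ?_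
  exact (dc_aug q _).trans (map_zero _).symm

/-- The augmentation of the flipped bicomplex by global sections. -/
noncomputable def augBi : col (glob I) ⟶ (bicx U I).flip :=
  HomologicalComplex.mkHomFromSingle
    { f := augHom (U := U) I
      comm' := fun q q' _ => by
        refine ConcreteCategory.hom_ext _ _ fun s =>
          (extEquiv U (p := 0) (p' := 0) rfl (I.X q')).injective ?_
        refine (extEquiv_map U (p := 0) rfl (I.d q q') _).trans ?_
        refine (congrArg (cmap (I.d q q').hom) (extEquiv_augHom I q s)).trans ?_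
        refine (dd_aug q q' _).trans ?_
        refine Eq.trans ?_ (extEquiv_augHom I q' _).symm
        exact congrArg (aug (U := U) q') (secEquiv_comp _ _).symm }
    (fun k hk => by
      obtain rfl : (1 : ℤ) = k := by simpa using hk
      exact HomologicalComplex.hom_ext _ _ fun q => augHom_d I q)

theorem quasiIso_augBi (hcov : iSup U = ⊤) (hI : ∀ m, Injective (I.X m)) :
    QuasiIso (augBi (U := U) I) := by
  refine quasiIso_of_eval _ fun q => ?_
  let E := (HomologicalComplex.eval AddCommGrpCat.{u} (ComplexShape.up ℤ) q).mapHomologicalComplex (ComplexShape.up ℤ)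
  have hsrc : ∀ p : ℤ, p ≠ 0 → IsZero ((E.obj (col (glob I))).X p) := fun p hp => isZero_col _ p q hp
  refine ⟨fun p => ?_⟩
  by_cases hp : p = 0
  · subst hp
    rw [quasiIsoAt_iff' _ (-1) 0 1 (by simp) (by simp),
      ShortComplex.quasiIso_iff_of_zeros _ ((hsrc (-1) (by norm_num)).eq_of_src _ _)
        ((hsrc 1 (by norm_num)).eq_of_tgt _ _) ((isZero_cochF U (-1) (by norm_num) _).eq_of_src _ _)]
    have hφ : ((E.map (augBi (U := U) I)).f 0) =
        (HomologicalComplex.singleObjXSelf (ComplexShape.up ℤ) 0 (glob I)).hom.f q ≫ augHom I q := by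
      change ((augBi (U := U) I).f 0).f q = _
      rw [augBi, HomologicalComplex.mkHomFromSingle_f]
      rfl
    refine ⟨?_, ?_⟩
    · rw [ShortComplex.ab_exact_iff]
      intro x hx
      obtain ⟨t, ht⟩ := exists_aug (U := U) hcov (extEquiv U (p := 0) (p' := 0) rfl (I.X q) x) (by
        refine (extEquiv_d (U := U) (p := 0) (p' := 0) (p'' := 1) rfl rfl (I.X q) x).symm.trans ?_
        exact (congrArg (extEquiv U (p := 1) (p' := 1) rfl (I.X q)) hx).trans (map_zero _))
      refine ⟨(HomologicalComplex.singleObjXSelf (ComplexShape.up ℤ) 0 (glob I)).inv.f q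
        ((secEquiv (⊤ : Opens X) (I.X q)).symm t), ?_⟩
      change ((E.map (augBi (U := U) I)).f 0) _ = x
      refine (ConcreteCategory.congr_hom hφ _).trans ?_
      change augHom (U := U) I q (((HomologicalComplex.singleObjXSelf (ComplexShape.up ℤ) 0 (glob I)).inv.f q ≫
        (HomologicalComplex.singleObjXSelf (ComplexShape.up ℤ) 0 (glob I)).hom.f q)
          ((secEquiv (⊤ : Opens X) (I.X q)).symm t)) = x
      rw [← HomologicalComplex.comp_f, Iso.inv_hom_id]
      refine (extEquiv U (p := 0) (p' := 0) rfl (I.X q)).injective ?_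
      refine (extEquiv_augHom I q _).trans ?_
      refine Eq.trans ?_ ht
      exact congrArg (aug (U := U) q) (AddEquiv.apply_symm_apply _ _)
    · change Mono ((E.map (augBi (U := U) I)).f 0)
      rw [hφ]
      have : Mono (augHom (U := U) I q) := (AddCommGrpCat.mono_iff_injective _).2 fun s t h =>
        (secEquiv (⊤ : Opens X) (I.X q)).injective (aug_injective hcov q
          ((extEquiv_augHom I q s).symm.trans
            ((congrArg (extEquiv U (p := 0) (p' := 0) rfl (I.X q)) h).trans (extEquiv_augHom I q t))))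
      have : IsIso ((HomologicalComplex.singleObjXSelf (ComplexShape.up ℤ) 0 (glob I)).hom.f q) :=
        ((HomologicalComplex.eval AddCommGrpCat.{u} (ComplexShape.up ℤ) q).mapIso
          (HomologicalComplex.singleObjXSelf (ComplexShape.up ℤ) 0 (glob I))).isIso_hom
      exact mono_comp _ _
  · rw [quasiIsoAt_iff_exactAt _ p (ShortComplex.exact_of_isZero_X₂ ((E.obj (col (glob I))).sc p) (hsrc p hp))]
    rw [HomologicalComplex.exactAt_iff' _ (p - 1) p (p + 1) (by simp) (by simp), ShortComplex.ab_exact_iff]
    intro x hx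
    rcases lt_or_ge p 0 with hp' | hp'
    · refine ⟨0, ?_⟩
      haveI := AddCommGrpCat.subsingleton_of_isZero (isZero_cochF U p hp' (I.X q))
      exact Subsingleton.elim (α := (cochF U p).obj (I.X q)) _ _
    · obtain ⟨k, rfl⟩ : ∃ k : ℕ, p = ((k + 1 : ℕ) : ℤ) := ⟨(p - 1).toNat, by omega⟩
      obtain ⟨y, hy⟩ := cechExact_sheaf_injective _ (I.X q) U k
        (extEquiv U (p := k + 1) rfl (I.X q) x) (by
        refine (extEquiv_d (U := U) (p := k + 1) (p'' := ((k + 1 : ℕ) : ℤ) + 1) rfl (by push_cast; ring) (I.X q) x).symm.trans ?_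
        exact (congrArg _ hx).trans (map_zero _))
      refine ⟨(extEquiv U (p := k) (p' := ((k + 1 : ℕ) : ℤ) - 1) (by push_cast; ring) (I.X q)).symm y,
        (extEquiv U (p := k + 1) rfl (I.X q)).injective ?_⟩
      refine (extEquiv_d (U := U) (p := k) (by push_cast; ring) rfl (I.X q) _).trans ?_
      rw [AddEquiv.apply_symm_apply]
      exact hy

theorem nonempty_tot_iso_glob (hcov : iSup U = ⊤) (hI : ∀ m, Injective (I.X m)) (a : ℤ)
    (ha : ∀ m, m < a → IsZero (I.X m)) (n : ℤ) :
    Nonempty (CechTot.hyperH U ((CechTot.presheafCx X).obj I) n ≅ (glob I).homology n) := by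
  haveI := quasiIso_augBi (U := U) I hcov hI
  have hG : ∀ q, q < a → IsZero ((glob I).X q) := fun q hq => (secF (⊤ : Opens X)).map_isZero (ha q hq)
  let T := HomologicalComplex₂.total.map (augBi (U := U) I) (ComplexShape.up ℤ)
  haveI : QuasiIso T := TotalQis.quasiIso_total_map _ 0 a (col_bound _ a hG)
    (fun p q h => bicx_bound U I a ha q p h.symm)
  exact ⟨((HomologicalComplex.homologyFunctor _ _ n).mapIso
      ((bicx U I).totalFlipIso (ComplexShape.up ℤ)).symm) ≪≫
    (asIso (HomologicalComplex.homologyMap T n)).symm ≪≫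
    (HomologicalComplex.homologyFunctor _ _ n).mapIso (totalColIso (glob I) a hG)⟩

end Aug

end Groth.Agent.CechStair
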